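import Groth.Agent.Lib.RankComm14.Torus
import Groth.Agent.Lib.AbTors.Descend
import Groth.Agent.Lib.GrpSchField.Open
import Groth.Agent.Lib.GrpSchField.ReducedProd
import Groth.Agent.Lib.RedSubgrp15.Main
import Groth.Agent.S11995

/-!
# Morphisms from a product with an affine space to a group with semiabelian neutral component
-/

set_option autoImplicit false
set_option linter.all false
set_option backward.isDefEq.respectTransparency false
set_option maxHeartbeats 1000000

universe u

open CategoryTheory CategoryTheory.Limits AlgebraicGeometry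
open CategoryTheory.MonoidalCategory CategoryTheory.CartesianMonoidalCategory
open scoped MonObj

noncomputable section

namespace GrothLib.LargeGrpLine15

open GrothLib.RankComm14 GrothLib.DiagGrp

variable {k : Type u} [Field k]

local notation "S" => Spec (CommRingCat.of k)

theorem specMap_algebraMap_self (Ω : Type u) [Field Ω] :
    Spec.map (CommRingCat.ofHom (algebraMap Ω Ω)) = 𝟙 (Spec (CommRingCat.of Ω)) := by
  rw [Algebra.algebraMap_self, CommRingCat.ofHom_id, Spec.map_id]

/-- A point over a field as a point on the spectrum of the trivial algebra. -/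
def obSelf {Ω : Type u} [Field Ω] (σ : Spec (CommRingCat.of Ω) ⟶ S) : ob σ Ω ⟶ Over.mk σ :=
  Over.homMk (Spec.map (CommRingCat.ofHom (algebraMap Ω Ω))) rfl

instance isIso_obSelf {Ω : Type u} [Field Ω] (σ : Spec (CommRingCat.of Ω) ⟶ S) : IsIso (obSelf σ) := by
  haveI : IsIso ((Over.forget _).map (obSelf σ)) := by
    show IsIso (Spec.map (CommRingCat.ofHom (algebraMap Ω Ω)))
    rw [specMap_algebraMap_self]
    infer_instance
  exact isIso_of_reflects_iso (obSelf σ) (Over.forget _)

theorem obMap_aeval_comp {Ω : Type u} [Field Ω] (σ : Spec (CommRingCat.of Ω) ⟶ S) (c : Ω) :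
    obMap σ (Polynomial.aeval c) ≫
      (Over.homMk (Spec.map (CommRingCat.ofHom (algebraMap Ω (Polynomial Ω)))) rfl :
        ob σ (Polynomial Ω) ⟶ Over.mk σ) = obSelf σ := by
  refine Over.OverMorphism.ext ?_
  show Spec.map (CommRingCat.ofHom (Polynomial.aeval c).toRingHom) ≫
    Spec.map (CommRingCat.ofHom (algebraMap Ω (Polynomial Ω))) = Spec.map (CommRingCat.ofHom (algebraMap Ω Ω))
  rw [← Spec.map_comp]
  exact congrArg Spec.map (CommRingCat.hom_ext (RingHom.ext fun r => (Polynomial.aeval c).commutes r))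

theorem comp_bcPoint_eq_one {S₁ S₂ : Scheme.{u}} (f : S₂ ⟶ S₁) {X : Over S₁} [GrpObj X] {Z Z₀ : Over S₂}
    (z : Z₀ ⟶ Z) (t : (Over.map f).obj Z ⟶ X) (h : (Over.map f).map z ≫ t = 1) :
    z ≫ bcPointMulEquiv f X Z t = 1 := by
  rw [← map_one (bcPointMulEquiv f X Z₀), ← h]
  exact (bcPoint_comp f z t).symm

/-- A point of an abelian variety on the affine line over an algebraically closed extension is determined at the origin. -/
theorem line_abelian (A : Over S) [GrpObj A] [IsProper A.hom] [Smooth A.hom] [ConnectedSpace A.left]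
    {Ω : Type u} [Field Ω] [IsAlgClosed Ω] (σ : Spec (CommRingCat.of Ω) ⟶ S)
    (t : ob σ (Polynomial Ω) ⟶ A) (ht : obMap σ (Polynomial.aeval (0 : Ω)) ≫ t = 1) : t = 1 := by
  haveI := RedSubgrp15.geometricallyConnected_of_connected A
  haveI := Rigidity.geometricallyReduced_of_smooth' A.hom
  haveI : GeometricallyIntegral A.hom := Rigidity.geometricallyIntegral_of_connected A
  let A' := Red.bc σ A
  haveI : IsProper A'.hom := inferInstanceAs (IsProper (pullback.snd A.hom σ))
  haveI : GeometricallyIntegral A'.hom := inferInstanceAs (GeometricallyIntegral (pullback.snd A.hom σ))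
  let Z : Over (Spec (CommRingCat.of Ω)) :=
    Over.mk (Spec.map (CommRingCat.ofHom (algebraMap Ω (Polynomial Ω))))
  obtain ⟨g, hgdef⟩ : ∃ g : Z ⟶ A', g = bcPointMulEquiv σ A Z t := ⟨_, rfl⟩
  let n : Type u := PUnit.{u + 1}
  let E : Over (Spec (CommRingCat.of Ω)) :=
    Over.mk (𝔸(n; Spec (CommRingCat.of Ω)) ↘ Spec (CommRingCat.of Ω))
  let φ : CommRingCat.of (MvPolynomial n Ω) ≅ CommRingCat.of (Polynomial Ω) :=
    (MvPolynomial.uniqueAlgEquiv (R := Ω) n).toRingEquiv.toCommRingCatIso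
  let i : Z ⟶ E := Over.homMk (Spec.map φ.hom ≫ (AffineSpace.SpecIso n (CommRingCat.of Ω)).inv) (by
    show (Spec.map φ.hom ≫ (AffineSpace.SpecIso n (CommRingCat.of Ω)).inv) ≫ (𝔸(n; Spec (CommRingCat.of Ω)) ↘ _) =
      Spec.map (CommRingCat.ofHom (algebraMap Ω (Polynomial Ω)))
    rw [Category.assoc, AffineSpace.SpecIso_inv_over, ← Spec.map_comp]
    refine congrArg Spec.map (CommRingCat.hom_ext (RingHom.ext fun r => ?_))
    exact (MvPolynomial.uniqueAlgEquiv (R := Ω) n).commutes r)
  haveI : IsIso i := by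
    haveI : IsIso ((Over.forget _).map i) :=
      inferInstanceAs (IsIso (Spec.map φ.hom ≫ (AffineSpace.SpecIso n (CommRingCat.of Ω)).inv))
    exact isIso_of_reflects_iso i (Over.forget _)
  haveI : Smooth E.hom := by
    show Smooth (𝔸(n; Spec (CommRingCat.of Ω)) ↘ Spec (CommRingCat.of Ω))
    rw [← MorphismProperty.cancel_left_of_respectsIso @Smooth (AffineSpace.SpecIso n (CommRingCat.of Ω)).inv,
      AffineSpace.SpecIso_inv_over, HasRingHomProperty.Spec_iff (P := @Smooth)]
    show RingHom.Smooth (MvPolynomial.C (σ := n) (R := Ω))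
    rw [← MvPolynomial.algebraMap_eq, RingHom.smooth_algebraMap]
    exact { }
  haveI : IsSeparated E.hom := inferInstanceAs (IsSeparated (𝔸(n; Spec (CommRingCat.of Ω)) ↘ _))
  haveI : QuasiCompact E.hom := inferInstanceAs (QuasiCompact (𝔸(n; Spec (CommRingCat.of Ω)) ↘ _))
  haveI : GeometricallyIntegral E.hom := inferInstanceAs (GeometricallyIntegral (𝔸(n; Spec (CommRingCat.of Ω)) ↘ _))
  haveI : IsIntegral E.left := GeometricallyIntegral.isIntegral_of_subsingleton E.hom
  obtain ⟨a, ha⟩ := Groth.Agent.S11995.result Ω E A' n (⊤ : (𝔸(n; Spec (CommRingCat.of Ω))).Opens)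
    ⟨genericPoint E.left, trivial⟩ (Scheme.Opens.ι (⊤ : (𝔸(n; Spec (CommRingCat.of Ω))).Opens)) rfl
    ((show Function.Surjective (Scheme.Opens.ι (⊤ : (𝔸(n; Spec (CommRingCat.of Ω))).Opens)) from
      fun x => ⟨⟨x, trivial⟩, rfl⟩).denseRange) (inv i ≫ g)
  have hg : g = toUnit Z ≫ a := by
    rw [← IsIso.hom_inv_id_assoc i g, ha, ← Category.assoc, toUnit_unique (i ≫ toUnit E) (toUnit Z)]
  let Z₀ : Over (Spec (CommRingCat.of Ω)) := Over.mk (Spec.map (CommRingCat.ofHom (algebraMap Ω Ω)))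
  let z : Z₀ ⟶ Z := Over.homMk (Spec.map (CommRingCat.ofHom (Polynomial.aeval (0 : Ω)).toRingHom)) (by
    show Spec.map _ ≫ Spec.map _ = Spec.map _
    rw [← Spec.map_comp]
    exact congrArg Spec.map (CommRingCat.hom_ext (RingHom.ext fun r => (Polynomial.aeval (0 : Ω)).commutes r)))
  have hz : z ≫ g = 1 := by
    rw [hgdef]
    exact comp_bcPoint_eq_one σ z t ht
  rw [hg, ← Category.assoc, toUnit_unique (z ≫ toUnit Z) (toUnit Z₀)] at hz
  have ha1 : a = 1 := by
    let u : 𝟙_ (Over (Spec (CommRingCat.of Ω))) ⟶ Z₀ := Over.homMk (𝟙 _) (by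
      show 𝟙 _ ≫ Spec.map (CommRingCat.ofHom (algebraMap Ω Ω)) = 𝟙 _
      rw [Category.id_comp]
      exact Spec.map_id _)
    have hu : u ≫ toUnit Z₀ = 𝟙 (𝟙_ (Over (Spec (CommRingCat.of Ω)))) := toUnit_unique _ _
    rw [← Category.id_comp a, ← hu, Category.assoc, hz, MonObj.comp_one]
  refine (bcPointMulEquiv σ A Z).injective ?_
  refine hgdef.symm.trans ?_
  rw [hg, ha1, MonObj.comp_one]
  exact (map_one (bcPointMulEquiv σ A Z)).symm

/-- A point of a group with semiabelian neutral component on the affine line is determined at the origin. -/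
theorem line_semiabelian (G : Over S) [GrpObj G] [LocallyOfFiniteType G.hom]
    (G0 : Over S) [GrpObj G0] (e : G0 ⟶ G) [IsMonHom e] [IsOpenImmersion e.left]
    (T : Over S) [GrpObj T] (i : T ⟶ G0) [IsMonHom i] [IsClosedImmersion i.left] (hT : Red.IsTorus T)
    (A : Over S) [GrpObj A] [IsProper A.hom] [Smooth A.hom] [ConnectedSpace A.left]
    (q : G0 ⟶ A) [IsMonHom q] (hker : AlgGrp.IsKernel i q)
    {Ω : Type u} [Field Ω] [IsAlgClosed Ω] (σ : Spec (CommRingCat.of Ω) ⟶ S)
    (h : ob σ (Polynomial Ω) ⟶ G) (h0 : obMap σ (Polynomial.aeval (0 : Ω)) ≫ h = 1) : h = 1 := by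
  -- the line lands in the neutral component
  have hcl : IsClosed (Set.range e.left) :=
    GrpSchField.isClosed_range_of_isLocallyClosed e e.left.isOpenEmbedding.isOpen_range.isLocallyClosed
  have hmem : Set.range h.left ⊆ Set.range e.left := by
    have hU : IsClopen (h.left ⁻¹' Set.range e.left) :=
      ⟨hcl.preimage h.left.continuous, e.left.isOpenEmbedding.isOpen_range.preimage h.left.continuous⟩
    haveI : IrreducibleSpace (ob σ (Polynomial Ω)).left := inferInstanceAs (IrreducibleSpace (PrimeSpectrum (Polynomial Ω)))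
    have hne : (h.left ⁻¹' Set.range e.left).Nonempty := by
      refine ⟨(obMap σ (Polynomial.aeval (0 : Ω))).left (IsLocalRing.closedPoint Ω), ?_⟩
      rw [Set.mem_preimage]
      rw [← Scheme.Hom.comp_apply, ← Over.comp_left, h0]
      have e1' : (1 : ob σ Ω ⟶ G) = (1 : ob σ Ω ⟶ G0) ≫ e := (MonObj.one_comp e).symm
      rw [e1', Over.comp_left, Scheme.Hom.comp_apply]
      exact ⟨_, rfl⟩
    rintro _ ⟨x, rfl⟩
    exact ((hU.eq_univ hne).ge (Set.mem_univ x) :)
  let h₀ : ob σ (Polynomial Ω) ⟶ G0 := Over.homMk (IsOpenImmersion.lift e.left h.left hmem) (by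
    rw [← Over.w e, IsOpenImmersion.lift_fac_assoc, Over.w h])
  have hh₀ : h₀ ≫ e = h := Over.OverMorphism.ext (IsOpenImmersion.lift_fac _ _ _)
  haveI : Mono e := Over.mono_of_mono_left e
  haveI : Mono i := Over.mono_of_mono_left i
  have h₀0 : (obMap σ (Polynomial.aeval (0 : Ω))) ≫ h₀ = 1 := by rw [← cancel_mono e, Category.assoc, hh₀, h0, MonObj.one_comp]
  have hq : h₀ ≫ q = 1 := line_abelian A σ _ (by rw [← Category.assoc, h₀0, MonObj.one_comp])
  obtain ⟨hT', hT''⟩ : ∃ hT' : ob σ (Polynomial Ω) ⟶ T, hT' ≫ i = h₀ :=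
    ⟨hker.lift h₀ (toUnit (ob σ (Polynomial Ω))) (by rw [hq, Hom.one_def]), hker.lift_fst _ _ _⟩
  have h1 : hT' = 1 := const_of_polynomial hT σ hT' (by
    rw [← cancel_mono i, Category.assoc, hT'', h₀0, MonObj.one_comp])
  rw [← hh₀, ← hT'', h1, MonObj.one_comp, MonObj.one_comp]


theorem factors_through_fst [PerfectField k]
    (X : Over S) [IsReduced X.left] [IsSeparated X.hom] [QuasiCompact X.hom] [LocallyOfFiniteType X.hom] (n : ℕ)
    (G : Over S) [GrpObj G] [IsCommMonObj G] [IsSeparated G.hom] [LocallyOfFiniteType G.hom]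
    (G0 : Over S) [GrpObj G0] (e : G0 ⟶ G) [IsMonHom e] [IsOpenImmersion e.left]
    (T : Over S) [GrpObj T] (i : T ⟶ G0) [IsMonHom i] [IsClosedImmersion i.left] (hT : Red.IsTorus T)
    (A : Over S) [GrpObj A] [IsProper A.hom] [Smooth A.hom] [ConnectedSpace A.left]
    (q : G0 ⟶ A) [IsMonHom q] (hker : AlgGrp.IsKernel i q)
    (φ : X ⊗ Over.mk (Spec.map (CommRingCat.ofHom (algebraMap k (MvPolynomial (Fin n) k)))) ⟶ G) :
    ∃ ψ : X ⟶ G, φ = fst X (Over.mk (Spec.map (CommRingCat.ofHom (algebraMap k (MvPolynomial (Fin n) k))))) ≫ ψ := by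
  let R := MvPolynomial (Fin n) k
  let E : Over S := Over.mk (Spec.map (CommRingCat.ofHom (algebraMap k R)))
  let z₀ : 𝟙_ (Over S) ⟶ E := Over.homMk (Spec.map (CommRingCat.ofHom (MvPolynomial.aeval (fun _ => (0 : k))).toRingHom)) (by
    show Spec.map _ ≫ Spec.map _ = 𝟙 _
    rw [← Spec.map_comp, ← Spec.map_id]
    exact congrArg Spec.map (CommRingCat.hom_ext (RingHom.ext fun r => (MvPolynomial.aeval fun _ => (0 : k)).commutes r)))
  let ψ : X ⟶ G := lift (𝟙 X) (toUnit X ≫ z₀) ≫ φ
  refine ⟨ψ, ?_⟩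
  let δ : X ⊗ E ⟶ G := φ * (fst X E ≫ ψ)⁻¹
  suffices hδ : δ = 1 from mul_inv_eq_one.1 hδ
  haveI : IsReduced E.left := (affine_isReduced_iff (CommRingCat.of R)).2 inferInstance
  haveI : LocallyOfFiniteType E.hom := (HasRingHomProperty.Spec_iff (P := @LocallyOfFiniteType)).2
    (RingHom.finiteType_algebraMap.2 inferInstance)
  haveI : IsReduced (X ⊗ E).left := GrpSchField.isReduced_pullback X.hom E.hom
  haveI : LocallyOfFiniteType (X ⊗ E).hom := inferInstanceAs (LocallyOfFiniteType (pullback.fst X.hom E.hom ≫ X.hom))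
  obtain ⟨Ω, _, _, _⟩ : ∃ (Ω : Type u) (_ : Field Ω) (_ : Algebra k Ω), IsAlgClosed Ω :=
    ⟨AlgebraicClosure k, inferInstance, inferInstance, inferInstance⟩
  let σ : Spec (CommRingCat.of Ω) ⟶ S := Spec.map (CommRingCat.ofHom (algebraMap k Ω))
  refine AbTors.ext_of_geomPts σ δ 1 fun t => ?_
  rw [MonObj.comp_one]
  let m : ob σ Ω ⟶ Over.mk σ := obSelf σ
  haveI : IsIso m := isIso_obSelf σ
  rw [← cancel_epi m, MonObj.comp_one]
  let v := Spec.preimage (t ≫ snd X E).left
  have hv : ∀ r : k, v.hom (algebraMap k R r) = algebraMap k Ω r := by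
    intro r
    have h : CommRingCat.ofHom (algebraMap k R) ≫ v = CommRingCat.ofHom (algebraMap k Ω) :=
      Spec.map_injective (by rw [Spec.map_comp, Spec.map_preimage]; exact Over.w (t ≫ snd X E))
    exact congrArg (fun f => f.hom r) h
  let vA : R →ₐ[k] Ω := ⟨v.hom, hv⟩
  let lin : R →ₐ[k] Polynomial Ω := MvPolynomial.aeval fun j => Polynomial.X * Polynomial.C (vA (MvPolynomial.X j))
  let L : Over S := ob σ (Polynomial Ω)
  let π : L ⟶ Over.mk σ := Over.homMk (Spec.map (CommRingCat.ofHom (algebraMap Ω (Polynomial Ω)))) rfl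
  let lE : L ⟶ E := Over.homMk (Spec.map (CommRingCat.ofHom lin.toRingHom)) (by
    show Spec.map _ ≫ Spec.map _ = Spec.map _ ≫ Spec.map _
    rw [← Spec.map_comp, ← Spec.map_comp]
    refine congrArg Spec.map (CommRingCat.hom_ext (RingHom.ext fun r => ?_))
    show lin (algebraMap k R r) = algebraMap Ω (Polynomial Ω) (algebraMap k Ω r)
    rw [lin.commutes, ← IsScalarTower.algebraMap_apply])
  let l : L ⟶ X ⊗ E := lift (π ≫ t ≫ fst X E) lE
  let e0 : ob σ Ω ⟶ L := obMap σ (Polynomial.aeval (0 : Ω))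
  let e1 : ob σ Ω ⟶ L := obMap σ (Polynomial.aeval (1 : Ω))
  have heπ : ∀ c : Ω, obMap σ (Polynomial.aeval c) ≫ π = m := fun c => obMap_aeval_comp σ c
  have hl1 : e1 ≫ l = m ≫ t := by
    apply CartesianMonoidalCategory.hom_ext
    · rw [Category.assoc, lift_fst, ← Category.assoc, heπ, Category.assoc]
    · rw [Category.assoc, lift_snd]
      refine Over.OverMorphism.ext ?_
      show Spec.map _ ≫ Spec.map _ = (m ≫ t ≫ snd X E).left
      rw [← Spec.map_comp, Over.comp_left]
      show _ = Spec.map (CommRingCat.ofHom (algebraMap Ω Ω)) ≫ (t ≫ snd X E).left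
      rw [specMap_algebraMap_self, Category.id_comp, ← Spec.map_preimage (t ≫ snd X E).left]
      refine congrArg Spec.map (CommRingCat.hom_ext ?_)
      show ((Polynomial.aeval (1 : Ω)).restrictScalars k |>.comp lin).toRingHom = vA.toRingHom
      refine congrArg AlgHom.toRingHom (MvPolynomial.algHom_ext fun j => ?_)
      simp [lin]
      rfl
  have hl0 : e0 ≫ l = lift (m ≫ t ≫ fst X E) (toUnit _ ≫ z₀) := by
    apply CartesianMonoidalCategory.hom_ext
    · rw [Category.assoc, lift_fst, lift_fst, ← Category.assoc, heπ]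
    · rw [Category.assoc, lift_snd, lift_snd]
      refine Over.OverMorphism.ext ?_
      rw [Over.comp_left, Over.comp_left, show (toUnit (ob σ Ω)).left = (ob σ Ω).hom from
        (Category.comp_id _).symm.trans (Over.w _)]
      show Spec.map _ ≫ Spec.map _ = (Spec.map _ ≫ Spec.map _) ≫ Spec.map _
      rw [← Spec.map_comp, ← Spec.map_comp, ← Spec.map_comp]
      refine congrArg Spec.map (CommRingCat.hom_ext ?_)
      show ((Polynomial.aeval (0 : Ω)).restrictScalars k |>.comp lin).toRingHom =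
        ((Algebra.ofId k Ω).comp (MvPolynomial.aeval fun _ => (0 : k))).toRingHom
      refine congrArg AlgHom.toRingHom (MvPolynomial.algHom_ext fun j => ?_)
      simp [lin]
  have h0 : e0 ≫ l ≫ δ = 1 := by
    rw [← Category.assoc, hl0]
    simp only [δ, ψ, MonObj.comp_mul, GrpObj.comp_inv, lift_fst_assoc]
    rw [mul_inv_eq_one, comp_lift_assoc, Category.comp_id]
    congr 1
    rw [← Category.assoc (m ≫ t ≫ fst X E), toUnit_unique ((m ≫ t ≫ fst X E) ≫ toUnit X) (toUnit _)]
  suffices h : l ≫ δ = 1 by rw [← Category.assoc, ← hl1, Category.assoc, h, MonObj.comp_one]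
  exact line_semiabelian G G0 e T i hT A q hker σ _ (by rw [← Category.assoc] at h0 ⊢; exact h0)

end GrothLib.LargeGrpLine15
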